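import Mathlib.FieldTheory.IsAlgClosed.Basic
import Mathlib.Algebra.CharP.Basic
import Mathlib.LinearAlgebra.FiniteDimensional.Basic
import Mathlib.LinearAlgebra.Dimension.Constructions
import Mathlib.RingTheory.Noetherian.Basic
import Mathlib.FieldTheory.Finite.Basic
import Mathlib.RingTheory.Unramified.Field
import Mathlib.RingTheory.Kaehler.Basic

/-!
# Frobenius-semilinear endomorphisms over algebraically closed fields
-/

universe u

open Polynomial

namespace Groth.Agent.LangLib

/-- `F - 1` hits every vector. -/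
theorem exists_sub_eq {k V : Type*} [Field k] [IsAlgClosed k] (p : ℕ) [Fact p.Prime] [CharP k p]
    [AddCommGroup V] [Module k V] [FiniteDimensional k V] (F : V →+ V)
    (hF : ∀ (c : k) (v : V), F (c • v) = c ^ p • F v) (w : V) :
    ∃ x, F x - x = w := by
  classical
  let e : ℕ → V := fun i => F^[i] w
  -- a linear relation `e (n+1) = ∑_{i ≤ n} a i • e i`
  obtain ⟨n, hn⟩ : ∃ n, e (n + 1) ∈ Submodule.span k (e '' Set.Iic n) := by
    obtain ⟨n, hn⟩ := monotone_stabilizes_iff_noetherian.2 (inferInstance : IsNoetherian k V)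
      ⟨fun n => Submodule.span k (e '' Set.Iic n),
        fun a b hab => Submodule.span_mono (Set.image_mono (Set.Iic_subset_Iic.2 hab))⟩
    exact ⟨n, (hn (n + 1) n.le_succ).ge (Submodule.subset_span ⟨n + 1, Set.mem_Iic.2 le_rfl, rfl⟩)⟩
  rw [← Finset.coe_Iic, Submodule.mem_span_image_finset_iff_exists_fun'] at hn
  obtain ⟨a₀, ha₀⟩ := hn
  let a : ℕ → k := a₀
  have ha : ∑ i ∈ Finset.range (n + 1), a i • e i = e (n + 1) := by
    rw [← ha₀, Nat.range_succ_eq_Iic]
  let Q : ℕ → k[X] := fun i => Nat.rec (C (a 0) * X ^ p - 1) (fun j q => q ^ p + C (a (j + 1)) * X ^ p) i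
  have hQ : ∀ i, derivative (Q i) = 0 := by
    intro i
    cases i with
    | zero => simp [Q, derivative_X_pow, CharP.cast_eq_zero k p]
    | succ j => simp [Q, derivative_pow, derivative_X_pow, CharP.cast_eq_zero k p]
  obtain ⟨t, ht⟩ : ∃ t, IsRoot (Q n - X) t := by
    refine IsAlgClosed.exists_root _ fun h => ?_
    have h2 : derivative (Q n - X) = 0 := by rw [eq_C_of_degree_eq_zero h, derivative_C]
    simp [hQ] at h2
  rw [IsRoot, eval_sub, eval_X, sub_eq_zero] at ht
  let x : ℕ → k := fun i => (Q i).eval t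
  refine ⟨∑ i ∈ Finset.range (n + 1), x i • e i, ?_⟩
  have h1 : F (∑ i ∈ Finset.range (n + 1), x i • e i) =
      ∑ i ∈ Finset.range (n + 1), x i ^ p • e (i + 1) := by
    rw [map_sum]
    exact Finset.sum_congr rfl fun i _ => by rw [hF, show e (i + 1) = F (e i) from Function.iterate_succ_apply' F i w]
  rw [h1, Finset.sum_range_succ, show x n ^ p = t ^ p by rw [show x n = t from ht], ← ha, Finset.smul_sum,
    Finset.sum_range_succ' (fun i => x i • e i), Finset.sum_range_succ' (fun i => t ^ p • a i • e i)]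
  have hx : ∀ i, x (i + 1) = x i ^ p + a (i + 1) * t ^ p := fun i => by simp [x, Q]
  have h0 : x 0 = a 0 * t ^ p - 1 := by simp [x, Q]
  have he : e 0 = w := rfl
  simp only [hx, h0, smul_smul, add_smul, Finset.sum_add_distrib, sub_smul, one_smul, mul_comm (t ^ p), he]
  abel

/-- fixed vectors form a finite set of at most `p ^ dim` elements -/
theorem fixed_finite {k V : Type*} [Field k] (p : ℕ) [hp : Fact p.Prime]
    [AddCommGroup V] [Module k V] [FiniteDimensional k V] (F : V →+ V)
    (hF : ∀ (c : k) (v : V), F (c • v) = c ^ p • F v) :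
    Set.Finite {v : V | F v = v} ∧ Nat.card {v : V | F v = v} ≤ p ^ Module.finrank k V := by
  classical
  obtain ⟨b, hb, hspan, hli⟩ := exists_linearIndependent k {v : V | F v = v}
  have : Finite b := hli.finite
  have := Fintype.ofFinite b
  have hne : (X ^ p - X : k[X]) ≠ 0 := FiniteField.X_pow_card_sub_X_ne_zero k hp.out.one_lt
  let R : Finset k := (X ^ p - X : k[X]).roots.toFinset
  have hR : R.card ≤ p :=
    (Multiset.toFinset_card_le _).trans ((card_roots' _).trans
      (FiniteField.X_pow_card_sub_X_natDegree_eq k hp.out.one_lt).le)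
  let S : Finset V := (Fintype.piFinset fun _ : b => R).image fun c => ∑ i : b, c i • (i : V)
  have hsub : {v : V | F v = v} ⊆ S := by
    intro v hv
    have hv' : v ∈ Submodule.span k (Set.range ((↑) : b → V)) := by
      rw [Subtype.range_coe, hspan]; exact Submodule.subset_span hv
    obtain ⟨c, rfl⟩ := (Submodule.mem_span_range_iff_exists_fun k).1 hv'
    refine Finset.mem_coe.2 (Finset.mem_image.2 ⟨c, Fintype.mem_piFinset.2 fun i => ?_, rfl⟩)
    have h1 : ∑ i : b, c i ^ p • (i : V) = ∑ i : b, c i • (i : V) := by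
      rw [← (hv : F _ = _), map_sum]
      exact Finset.sum_congr rfl fun i _ => by rw [hF, show F (i : V) = i from hb i.2]
    rw [← sub_eq_zero, ← Finset.sum_sub_distrib] at h1
    simp only [← sub_smul] at h1
    have h2 := Fintype.linearIndependent_iff.1 hli _ h1 i
    simp [R, hne, h2]
  have hfin : Set.Finite {v : V | F v = v} := S.finite_toSet.subset hsub
  refine ⟨hfin, ?_⟩
  calc Nat.card {v : V | F v = v} ≤ S.card := by
        rw [← Nat.card_eq_finsetCard]; exact Nat.card_mono S.finite_toSet hsub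
    _ ≤ (Fintype.piFinset fun _ : b => R).card := Finset.card_image_le
    _ = R.card ^ Fintype.card b := by simp [Fintype.card_piFinset]
    _ ≤ p ^ Fintype.card b := Nat.pow_le_pow_left hR _
    _ ≤ p ^ Module.finrank k V := Nat.pow_le_pow_right hp.out.pos hli.fintype_card_le_finrank

/-- solutions in an extension field of `c i = ∑ a i j * c j ^ p` are algebraic -/
theorem mem_range_of_system {k k' : Type u} [Field k] [IsAlgClosed k] [Field k'] [Algebra k k']
    (p : ℕ) [CharP k p] {ι : Type*} [Fintype ι] (a : ι → ι → k) (c : ι → k')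
    (hc : ∀ i, c i = ∑ j, algebraMap k k' (a i j) * c j ^ p) (i : ι) :
    c i ∈ Set.range (algebraMap k k') := by
  let A := Algebra.adjoin k (Set.range c)
  haveI : Algebra.FiniteType k A := (Subalgebra.fg_iff_finiteType A).1 (Subalgebra.fg_def.2 ⟨_, Set.finite_range c, rfl⟩)
  let g : ι → A := fun i => ⟨c i, Algebra.subset_adjoin ⟨i, rfl⟩⟩
  have hp0 : (p : A) = 0 := by
    rw [← map_natCast (algebraMap k A), CharP.cast_eq_zero, map_zero]
  have hg : ∀ i, KaehlerDifferential.D k A (g i) = 0 := by
    intro i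
    rw [show g i = ∑ j, algebraMap k A (a i j) * g j ^ p from Subtype.ext (by simp [g, hc i]), map_sum]
    refine Finset.sum_eq_zero fun j _ => ?_
    rw [Derivation.leibniz, Derivation.map_algebraMap, Derivation.leibniz_pow]
    simp only [smul_zero, add_zero]
    rw [← Nat.cast_smul_eq_nsmul A, hp0, zero_smul, smul_zero]
  have hsub : Subsingleton (Ω[A⁄k]) := by
    rw [← Submodule.subsingleton_iff A]
    refine subsingleton_of_bot_eq_top (eq_bot_iff.2 ?_).symm
    rw [← KaehlerDifferential.span_range_derivation, Submodule.span_le]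
    rintro _ ⟨x, rfl⟩
    obtain ⟨x, hx⟩ := x
    induction hx using Algebra.adjoin_induction with
    | mem y hy => obtain ⟨i, rfl⟩ := hy; simpa using hg i
    | algebraMap r =>
      rw [SetLike.mem_coe, Submodule.mem_bot]
      exact Derivation.map_algebraMap (KaehlerDifferential.D k A) r
    | add y z hy hz h1 h2 =>
      have h3 : (⟨y + z, add_mem hy hz⟩ : A) = ⟨y, hy⟩ + ⟨z, hz⟩ := rfl
      rw [SetLike.mem_coe, Submodule.mem_bot] at h1 h2 ⊢
      rw [h3, map_add, h1, h2, add_zero]
    | mul y z hy hz h1 h2 =>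
      have h3 : (⟨y * z, mul_mem hy hz⟩ : A) = ⟨y, hy⟩ * ⟨z, hz⟩ := rfl
      rw [SetLike.mem_coe, Submodule.mem_bot] at h1 h2 ⊢
      rw [h3, Derivation.leibniz, h1, h2, smul_zero, smul_zero, add_zero]
  haveI : Algebra.FormallyUnramified k A := ⟨hsub⟩
  haveI : Module.Finite k A := Algebra.FormallyUnramified.finite_of_free k A
  obtain ⟨r, hr⟩ := IsAlgClosed.algebraMap_bijective_of_isIntegral (k := k) (K := A) |>.2 (g i)
  exact ⟨r, congrArg Subtype.val hr⟩

end Groth.Agent.LangLib
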